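import Mathlib
import Cfsg.Agent.Lib.Helper28.CoverL
import Cfsg.Agent.Lib.Helper28.G2Mult.Words

/-!
# Word data for the cover presentation used for the Schur multiplier of `G₂(3)` (helper28)

Letters: `2 * i` is the generator `i`, `2 * i + 1` its inverse.  Generators `u, v, t`:
`u, v` satisfy the relators `relL2` of the presentation of `U₃(3)` (level 2 of the `G₂(4)` chain),
`t` is an involution, with two further relators.
`facsL0`: for each generator `x` a list of relators or inverses of relators whose product has the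
exponent sums of `x⁻¹`.  `hU, hV, hT`: the generators as words in the root elements of `G₂(3)`
(the letter `2 * r` is `x_r(1)`, the letter `2 * r + 1` is `x_r(2)`).
-/

set_option autoImplicit false
set_option maxRecDepth 1000000

namespace Cfsg.Agent.Lib.Helper28.G23Mult.Words

open Cfsg.Agent.Lib.Helper28.CovL
open Cfsg.Agent.Lib.Helper28.G2Mult.Words (relL2 facsL2)

/-- the relators involving `t` -/
def relT : List (List ℕ) :=
  [[4, 4],
    [0, 4, 0, 4, 0, 4],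
    [4, 3, 0, 2, 2, 0, 2, 2, 0, 4, 3, 0, 2, 0, 3, 0, 3, 3, 3, 0, 2]]

/-- the relators of level 0 -/
def relL0 : List (List ℕ) := relL2 ++ relT

/-- the factorisation of `t` -/
def facT : List (List ℕ) :=
  [[1, 1],
    [1, 1],
    [1, 1],
    [1, 1],
    [1, 1],
    [1, 1],
    [1, 1],
    [1, 1],
    [1, 1],
    [1, 1],
    [1, 1],
    [1, 1],
    [1, 1],
    [1, 1],
    [1, 1],
    [1, 1],
    [1, 1],
    [1, 1],
    [1, 1],
    [1, 1],
    [1, 1],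
    [1, 1],
    [1, 1],
    [1, 1],
    [1, 1],
    [1, 1],
    [1, 1],
    [1, 1],
    [1, 1],
    [1, 1],
    [1, 1],
    [1, 1],
    [1, 1],
    [1, 1],
    [1, 1],
    [1, 1],
    [3, 3, 3, 3, 0, 3, 3, 3, 3, 0, 3, 3, 3, 3, 0],
    [3, 3, 3, 3, 3, 3, 0, 2, 0, 2, 2, 0, 2, 0, 2, 2, 0, 2, 0],
    [3, 3, 3, 3, 3, 3, 0, 2, 0, 2, 2, 0, 2, 0, 2, 2, 0, 2, 0],
    [3, 3, 3, 3, 3, 3, 0, 2, 0, 2, 2, 0, 2, 0, 2, 2, 0, 2, 0],
    [3, 3, 3, 3, 3, 3, 0, 2, 0, 2, 2, 0, 2, 0, 2, 2, 0, 2, 0],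
    [3, 3, 3, 3, 3, 3, 0, 2, 0, 2, 2, 0, 2, 0, 2, 2, 0, 2, 0],
    [3, 3, 3, 3, 3, 3, 0, 2, 0, 2, 2, 0, 2, 0, 2, 2, 0, 2, 0],
    [3, 3, 3, 3, 3, 3, 0, 2, 0, 2, 2, 0, 2, 0, 2, 2, 0, 2, 0],
    [3, 3, 3, 3, 3, 3, 0, 2, 0, 2, 2, 0, 2, 0, 2, 2, 0, 2, 0],
    [3, 3, 3, 3, 3, 3, 0, 2, 0, 2, 2, 0, 2, 0, 2, 2, 0, 2, 0],
    [3, 3, 3, 3, 3, 3, 0, 2, 0, 2, 2, 0, 2, 0, 2, 2, 0, 2, 0],
    [3, 3, 3, 3, 3, 3, 0, 2, 0, 2, 2, 0, 2, 0, 2, 2, 0, 2, 0],
    [3, 3, 3, 3, 3, 3, 0, 2, 0, 2, 2, 0, 2, 0, 2, 2, 0, 2, 0],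
    [4, 4],
    [5, 1, 5, 1, 5, 1]]

/-- the factorisations of level 0 -/
def facsL0 : List (List (List ℕ)) := facsL2 ++ [facT]

/-- the subgroup words of level 0: the generators `u`, `v` -/
def subs0 : List (List ℕ) := [[0], [2]]

/-- `u` as a word in the root letters -/
def hU : List ℕ := [9, 9, 18, 11, 7, 7, 3, 23]

/-- `v` as a word in the root letters -/
def hV : List ℕ := [12, 14, 4, 10]

/-- `t` as a word in the root letters -/
def hT : List ℕ := [2, 9, 9, 18, 11, 7, 7, 3, 23, 3]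

end Cfsg.Agent.Lib.Helper28.G23Mult.Words
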